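/-
Groups determined by their set of same-order-element counts: the arithmetic search.
-/
import Cfsg.Agent.S3993

set_option autoImplicit false

namespace CfsgLib.SameOrder

/-- The sum of the recorded numbers over the recorded divisors of `m`. -/
def sumDvd (c : List (ℕ × ℕ)) (m : ℕ) : ℕ :=
  ((c.filter fun x => m % x.1 == 0).map Prod.snd).sum

/-- Total number of recorded elements. -/
def total (c : List (ℕ × ℕ)) : ℕ := (c.map Prod.snd).sum

/-- A complete table of element orders could come from a group with the value set `ev`. -/
def plausible (ev : List ℕ) (c : List (ℕ × ℕ)) : Bool :=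
  let T := total c
  ev.all (fun v => c.any fun x => x.2 == v) && (c.all (fun x => T % x.1 == 0)) &&
    [3, 5, 7].all (fun p => T % p != 0 || c.any fun x => x.1 == p) &&
    (210 ^ T % T == 0) &&
    (List.range (T + 1)).all (fun d => d == 0 || T % d != 0 || sumDvd c d % d == 0)

/-- The table is the wanted one. -/
def isTarget (N : ℕ) (tgt c : List (ℕ × ℕ)) : Bool :=
  total c == N && c.all fun x => tgt.any fun y => y.1 == x.1 && y.2 == x.2

/-- The search: every table that extends `c` by orders from `rest` is implausible or the target. -/
def search (ev : List ℕ) (N : ℕ) (tgt : List (ℕ × ℕ)) :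
    ℕ → List (ℕ × List ℕ) → List (ℕ × ℕ) → Bool
  | 0, _, _ => false
  | _ + 1, [], c => !plausible ev c || isTarget N tgt c
  | fuel + 1, e :: r, c =>
    search ev N tgt fuel (r.filter fun x => x.1 % e.1 != 0) c &&
      e.2.all fun v => ((sumDvd c e.1 + v) % e.1 != 0 && !(r.any fun x => e.1 % x.1 == 0)) ||
        search ev N tgt fuel r ((e.1, v) :: c)

/-- The possible element orders (at least 3), each with its possible numbers of elements. -/
def candsFour : List (ℕ × List ℕ) :=
  [(3, [8]), (4, [8]), (6, [8]), (8, [8]), (12, [8]), (16, [8]),
   (24, [8])]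

/-- The possible element orders (at least 3), each with its possible numbers of elements. -/
def candsFive : List (ℕ × List ℕ) :=
  [(3, [20, 24]), (4, [20, 24]), (5, [20, 24]), (6, [20, 24]), (8, [20, 24]), (9, [24]),
   (10, [20, 24]), (12, [20, 24]), (15, [24]), (16, [24]), (18, [24]), (20, [24]),
   (24, [24]), (25, [20]), (30, [24]), (36, [24]), (45, [24]), (50, [20]),
   (72, [24]), (90, [24])]

/-- The possible element orders (at least 3), each with its possible numbers of elements. -/
def candsSix : List (ℕ × List ℕ) :=
  [(3, [80, 90, 144]), (4, [80, 90, 144]), (5, [80, 144]), (6, [80, 90, 144]), (7, [90, 144]), (8, [80, 144]),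
   (9, [90, 144]), (10, [80, 144]), (12, [80, 144]), (14, [90, 144]), (15, [80, 144]), (16, [80, 144]),
   (18, [90, 144]), (20, [80, 144]), (21, [144]), (24, [80, 144]), (25, [80]), (27, [90, 144]),
   (28, [144]), (30, [80, 144]), (32, [80, 144]), (35, [144]), (36, [144]), (40, [80, 144]),
   (42, [144]), (45, [144]), (48, [80, 144]), (50, [80]), (54, [90, 144]), (56, [144]),
   (60, [80, 144]), (63, [144]), (70, [144]), (72, [144]), (75, [80]), (84, [144]),
   (90, [144]), (100, [80]), (105, [144]), (108, [144]), (112, [144]), (126, [144]),
   (135, [144]), (140, [144]), (144, [144]), (150, [80]), (168, [144]), (180, [144]),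
   (200, [80]), (210, [144]), (216, [144]), (252, [144]), (270, [144]), (300, [80]),
   (315, [144]), (432, [144]), (504, [144]), (540, [144]), (630, [144])]

end CfsgLib.SameOrder
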