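/-
Groups determined by their set of same-order-element counts: soundness of the search.
-/
import Cfsg.Agent.Lib.SameOrder.Search

set_option autoImplicit false

namespace CfsgLib.SameOrder

variable {G : Type*} [Group G]

/-- The number of elements of order `m`. -/
noncomputable def cn (G : Type*) [Group G] (m : ℕ) : ℕ := Nat.card {g : G // orderOf g = m}

variable [Finite G]

theorem cn_pos_iff {m : ℕ} : 0 < cn G m ↔ ∃ g : G, orderOf g = m := by
  rw [cn, Nat.card_pos_iff]
  exact ⟨fun h => ⟨h.1.some.1, h.1.some.2⟩, fun ⟨g, hg⟩ => ⟨⟨⟨g, hg⟩⟩, inferInstance⟩⟩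

theorem cn_pos_of_dvd {m d : ℕ} (hm : 0 < cn G m) (hd : d ∣ m) : 0 < cn G d := by
  obtain ⟨g, hg⟩ := cn_pos_iff.mp hm
  have hm0 : 0 < m := hg ▸ orderOf_pos g
  have hd0 : 0 < d := Nat.pos_of_dvd_of_pos hd hm0
  refine cn_pos_iff.mpr ⟨g ^ (m / d), ?_⟩
  subst hg
  exact orderOf_pow_orderOf_div (orderOf_pos g).ne' hd

theorem dvd_card_of_cn_pos {m : ℕ} (hm : 0 < cn G m) : m ∣ Nat.card G := by
  obtain ⟨g, hg⟩ := cn_pos_iff.mp hm
  exact hg ▸ orderOf_dvd_natCard g

theorem totient_dvd_cn (m : ℕ) : m.totient ∣ cn G m := by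
  classical
  have := Fintype.ofFinite G
  rw [cn, Nat.card_eq_fintype_card, Fintype.card_subtype,
    Finset.card_eq_sum_card_image (fun g : G => Subgroup.zpowers g)]
  refine Finset.dvd_sum fun C hC => dvd_of_eq ?_
  obtain ⟨g, hg, rfl⟩ := Finset.mem_image.mp hC
  have hgo : orderOf g = m := (Finset.mem_filter.mp hg).2
  rw [← IsCyclic.card_orderOf_eq_totient (α := Subgroup.zpowers g) (d := m)
    (by rw [← Nat.card_eq_fintype_card, Nat.card_zpowers, hgo])]
  refine Finset.card_bij (fun a _ => (a : G)) (fun a ha => ?_) (fun a _ b _ h => Subtype.ext h)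
    (fun b hb => ?_)
  · have ha' : orderOf a = m := (Finset.mem_filter.mp ha).2
    refine Finset.mem_filter.mpr ⟨Finset.mem_filter.mpr ⟨Finset.mem_univ _, ?_⟩, ?_⟩
    · rw [Subgroup.orderOf_coe, ha']
    · exact Subgroup.eq_of_le_of_card_ge (Subgroup.zpowers_le.mpr a.2) (by
        rw [Nat.card_zpowers, Nat.card_zpowers, Subgroup.orderOf_coe, ha', hgo])
  · obtain ⟨hb1, hb2⟩ := Finset.mem_filter.mp hb
    have hb1' : orderOf b = m := (Finset.mem_filter.mp hb1).2
    exact ⟨⟨b, hb2 ▸ Subgroup.mem_zpowers b⟩,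
      Finset.mem_filter.mpr ⟨Finset.mem_univ _, by rw [Subgroup.orderOf_mk, hb1']⟩, rfl⟩

variable (G) in
/-- The table `c` consists of exact numbers of existing orders. -/
structure Exact (c : List (ℕ × ℕ)) : Prop where
  nodup : (c.map Prod.fst).Nodup
  val : ∀ x ∈ c, cn G x.1 = x.2
  pos : ∀ x ∈ c, 0 < x.2

theorem sum_filter_eq {c : List (ℕ × ℕ)} (h : Exact G c) (q : ℕ → Bool) (S : Finset ℕ)
    (hsub : ∀ k ∈ S, 0 < cn G k → k ∈ c.map Prod.fst ∧ q k = true)
    (hmem : ∀ k ∈ c.map Prod.fst, q k = true → k ∈ S) :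
    ((c.filter fun x => q x.1).map Prod.snd).sum = ∑ k ∈ S, cn G k := by
  classical
  have e : (c.filter fun x => q x.1).map Prod.snd = ((c.map Prod.fst).filter q).map (cn G) := by
    rw [List.filter_map, List.map_map]
    exact List.map_congr_left fun x hx => (h.val x (List.mem_filter.mp hx).1).symm
  have hn : ((c.map Prod.fst).filter q).Nodup := h.nodup.filter _
  rw [e, ← List.sum_toFinset (cn G) hn]
  refine Finset.sum_subset (fun k hk => ?_) (fun k hk hk' => ?_)
  · rw [List.mem_toFinset, List.mem_filter] at hk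
    exact hmem k hk.1 hk.2
  · by_contra hne
    refine hk' ?_
    rw [List.mem_toFinset, List.mem_filter]
    exact hsub k hk (Nat.pos_of_ne_zero hne)

theorem frob {m : ℕ} (hm : m ∣ Nat.card G) : m ∣ ∑ k ∈ m.divisors, cn G k := by
  classical
  have := Fintype.ofFinite G
  have hm0 : m ≠ 0 := fun e => Nat.card_pos.ne' (zero_dvd_iff.mp (e ▸ hm))
  have h := Cfsg.Agent.S3993.result (G := G) m hm
  have key := sum_card_orderOf_eq_card_pow_eq_one (G := G) hm0
  rw [Nat.card_eq_fintype_card (α := {g : G // g ^ m = 1}), Fintype.card_subtype] at h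
  have h2 : ∑ k ∈ m.divisors, cn G k = ∑ k ∈ m.divisors, Finset.card {x : G | orderOf x = k} :=
    Finset.sum_congr rfl fun k _ => by rw [cn, Nat.card_eq_fintype_card, Fintype.card_subtype]
  rw [h2, key]
  convert h using 3

theorem sumDvd_eq {c : List (ℕ × ℕ)} (h : Exact G c) {m : ℕ} (hm : 0 < m)
    (hcov : ∀ k, k ∣ m → 0 < cn G k → k ∈ c.map Prod.fst) :
    sumDvd c m = ∑ k ∈ m.divisors, cn G k := by
  refine sum_filter_eq h (fun k => m % k == 0) _ (fun k hk hpos => ?_) (fun k _ hk => ?_)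
  · have := (Nat.mem_divisors.mp hk).1
    exact ⟨hcov k this hpos, by simp [Nat.mod_eq_zero_of_dvd this]⟩
  · exact Nat.mem_divisors.mpr ⟨Nat.dvd_of_mod_eq_zero (by simpa using hk), hm.ne'⟩

theorem total_eq {c : List (ℕ × ℕ)} (h : Exact G c)
    (hcov : ∀ k, 0 < cn G k → k ∈ c.map Prod.fst) : total c = Nat.card G := by
  classical
  have := Fintype.ofFinite G
  have hs : total c = ∑ k ∈ (Finset.univ : Finset G).image (fun g => orderOf g), cn G k := by
    have := sum_filter_eq h (fun _ => true) ((Finset.univ : Finset G).image fun g => orderOf g)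
      (fun k _ hpos => ⟨hcov k hpos, rfl⟩) (fun k hk _ => by
        obtain ⟨x, hx, rfl⟩ := List.mem_map.mp hk
        obtain ⟨g, hg⟩ := cn_pos_iff.mp (h.val x hx ▸ h.pos x hx : 0 < cn G x.1)
        exact Finset.mem_image.mpr ⟨g, Finset.mem_univ _, hg⟩)
    rw [List.filter_eq_self.mpr fun _ _ => rfl] at this
    exact this
  rw [hs, Nat.card_eq_fintype_card, ← Finset.card_univ,
    Finset.card_eq_sum_card_image (fun g : G => orderOf g)]
  refine Finset.sum_congr rfl fun k _ => ?_
  rw [cn, Nat.card_eq_fintype_card, Fintype.card_subtype]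

/-- What the group has to satisfy with respect to the value set. -/
structure Fits (G : Type*) [Group G] (ev : List ℕ) : Prop where
  attained : ∀ v ∈ ev, ∃ m, 2 < m ∧ cn G m = v
  primes : ∀ p, p.Prime → p ∣ Nat.card G → p = 2 ∨ p = 3 ∨ p = 5 ∨ p = 7

theorem plausible_eq {ev : List ℕ} (hfit : Fits G ev) (hev : ∀ v ∈ ev, 0 < v)
    {c : List (ℕ × ℕ)} (h : Exact G c)
    (hcov : ∀ k, 0 < cn G k → k ∈ c.map Prod.fst) : plausible ev c = true := by
  have hT := total_eq h hcov
  simp only [plausible, Bool.and_eq_true, List.all_eq_true, List.any_eq_true, hT, Bool.or_eq_true,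
    beq_iff_eq, bne_iff_ne, List.mem_range]
  refine ⟨⟨⟨⟨fun v hv => ?_, fun x hx => ?_⟩, fun p hp => ?_⟩, ?_⟩, fun d _ => ?_⟩
  · obtain ⟨m, -, hm⟩ := hfit.attained v hv
    obtain ⟨x, hx, hx1⟩ := List.mem_map.mp (hcov m (hm ▸ hev v hv))
    exact ⟨x, hx, by rw [← h.val x hx, hx1, hm]⟩
  · exact Nat.mod_eq_zero_of_dvd (dvd_card_of_cn_pos (h.val x hx ▸ h.pos x hx))
  · by_cases hd : Nat.card G % p = 0
    · right
      haveI : Fact p.Prime := ⟨by fin_cases hp <;> norm_num⟩
      obtain ⟨g, hg⟩ := exists_prime_orderOf_dvd_card' (G := G) p (Nat.dvd_of_mod_eq_zero hd)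
      obtain ⟨x, hx, hx1⟩ := List.mem_map.mp (hcov p (cn_pos_iff.mpr ⟨g, hg⟩))
      exact ⟨x, hx, hx1⟩
    · exact Or.inl hd
  · refine Nat.mod_eq_zero_of_dvd ?_
    rw [Nat.dvd_iff_prime_pow_dvd_dvd]
    intro p k hp hpk
    rcases Nat.eq_zero_or_pos k with rfl | hk
    · simp
    have h210 : p ∣ 210 := by
      rcases hfit.primes p hp ((dvd_pow_self p hk.ne').trans hpk) with rfl | rfl | rfl | rfl <;>
        norm_num
    refine (pow_dvd_pow p ?_).trans (pow_dvd_pow_of_dvd h210 _)
    have h1 := Nat.le_of_dvd Nat.card_pos hpk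
    have h2 := Nat.lt_pow_self (n := k) hp.one_lt
    omega
  · rcases Nat.eq_zero_or_pos d with rfl | hd0
    · exact Or.inl (Or.inl rfl)
    by_cases hd : Nat.card G % d = 0
    · right
      rw [sumDvd_eq h hd0 fun k _ => hcov k]
      exact Nat.mod_eq_zero_of_dvd (frob (Nat.dvd_of_mod_eq_zero hd))
    · exact Or.inl (Or.inr hd)

/-- **Soundness** of the search. -/
theorem search_sound {ev : List ℕ} (hev : ∀ v ∈ ev, 0 < v) (hfit : Fits G ev) {N : ℕ}
    {tgt : List (ℕ × ℕ)} : ∀ (fuel : ℕ) (rest : List (ℕ × List ℕ)) (c : List (ℕ × ℕ)),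
    search ev N tgt fuel rest c = true → Exact G c → (rest.map Prod.fst).Nodup →
    (∀ x ∈ rest, x.1 ∉ c.map Prod.fst) →
    (∀ k, 0 < cn G k → k ∈ c.map Prod.fst ∨ k ∈ rest.map Prod.fst) →
    (∀ x ∈ rest, 0 < cn G x.1 → cn G x.1 ∈ x.2) →
    Nat.card G = N ∧ ∀ k, 0 < cn G k → (k, cn G k) ∈ tgt := by
  intro fuel
  induction fuel with
  | zero => intro rest c hs; simp [search] at hs
  | succ fuel ih =>
    intro rest c hs hc hnd hdisj hcov hval
    rcases rest with - | ⟨⟨e, vs⟩, r⟩
    · have hcov' : ∀ k, 0 < cn G k → k ∈ c.map Prod.fst := fun k hk => by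
        simpa using hcov k hk
      simp only [search, plausible_eq hfit hev hc hcov', Bool.not_true, Bool.false_or, isTarget,
        Bool.and_eq_true, beq_iff_eq, List.all_eq_true, List.any_eq_true] at hs
      refine ⟨(total_eq hc hcov').symm.trans hs.1, fun k hk => ?_⟩
      obtain ⟨x, hx, rfl⟩ := List.mem_map.mp (hcov' k hk)
      obtain ⟨y, hy, h1, h2⟩ := hs.2 x hx
      rw [hc.val x hx, ← h1, ← h2]
      exact hy
    · simp only [search, Bool.and_eq_true, List.all_eq_true, Bool.or_eq_true] at hs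
      rw [List.map_cons, List.nodup_cons] at hnd
      rcases Nat.eq_zero_or_pos (cn G e) with h0 | hpos
      · refine ih _ c hs.1 hc ?_ (fun x hx => hdisj x (List.mem_cons_of_mem _ (List.mem_filter.mp hx).1))
          (fun k hk => ?_) (fun x hx => hval x (List.mem_cons_of_mem _ (List.mem_filter.mp hx).1))
        · exact hnd.2.sublist ((List.filter_sublist).map _)
        · rcases hcov k hk with h | h
          · exact Or.inl h
          rcases List.mem_cons.mp h with rfl | h
          · exact absurd h0 hk.ne'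
          obtain ⟨x, hx, rfl⟩ := List.mem_map.mp h
          refine Or.inr (List.mem_map_of_mem (List.mem_filter.mpr ⟨hx, ?_⟩))
          rw [bne_iff_ne]
          exact fun hm => h0.not_gt (cn_pos_of_dvd hk (Nat.dvd_of_mod_eq_zero hm))
      · have hvm : cn G e ∈ vs := hval (e, vs) (List.mem_cons_self ..) hpos
        rcases hs.2 _ hvm with hbad | hgo
        · exfalso
          rw [bne_iff_ne, Bool.not_eq_true', List.any_eq_false] at hbad
          obtain ⟨hne, hnone⟩ := hbad
          have he0 : 0 < e := by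
            obtain ⟨g, hg⟩ := cn_pos_iff.mp hpos
            exact hg ▸ orderOf_pos g
          have hcov' : ∀ k, k ∣ e → 0 < cn G k → k ∈ ((e, cn G e) :: c).map Prod.fst := by
            intro k hk hkpos
            rcases hcov k hkpos with h | h
            · exact List.mem_cons_of_mem _ h
            rcases List.mem_cons.mp h with rfl | h
            · exact List.mem_cons_self ..
            obtain ⟨x, hx, rfl⟩ := List.mem_map.mp h
            exact absurd (by simp [Nat.mod_eq_zero_of_dvd hk]) (hnone x hx)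
          have hc' : Exact G ((e, cn G e) :: c) :=
            ⟨List.nodup_cons.mpr ⟨hdisj _ (List.mem_cons_self ..), hc.nodup⟩,
              List.forall_mem_cons.mpr ⟨rfl, hc.val⟩, List.forall_mem_cons.mpr ⟨hpos, hc.pos⟩⟩
          refine hne (Nat.mod_eq_zero_of_dvd ?_)
          have h1 := frob (dvd_card_of_cn_pos hpos)
          rw [← sumDvd_eq hc' he0 hcov'] at h1
          simpa [sumDvd, add_comm] using h1
        · refine ih r ((e, cn G e) :: c) hgo
            ⟨List.nodup_cons.mpr ⟨hdisj _ (List.mem_cons_self ..), hc.nodup⟩,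
              List.forall_mem_cons.mpr ⟨rfl, hc.val⟩, List.forall_mem_cons.mpr ⟨hpos, hc.pos⟩⟩
            hnd.2 (fun x hx h => ?_) (fun k hk => ?_)
            (fun x hx => hval x (List.mem_cons_of_mem _ hx))
          · rcases List.mem_cons.mp h with h | h
            · exact hnd.1 (List.mem_map.mpr ⟨x, hx, h⟩)
            · exact hdisj x (List.mem_cons_of_mem _ hx) h
          · rcases hcov k hk with h | h
            · exact Or.inl (List.mem_cons_of_mem _ h)
            rcases List.mem_cons.mp h with rfl | h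
            · exact Or.inl (List.mem_cons_self ..)
            · exact Or.inr h

end CfsgLib.SameOrder
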