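/-
Groups determined by their set of same-order-element counts: from the value set to the table.
-/
import Cfsg.Agent.Lib.SameOrder.Sound

set_option autoImplicit false

namespace CfsgLib.SameOrder

variable {G : Type*} [Group G] [Finite G]

omit [Finite G] in
theorem cn_one : cn G 1 = 1 := by
  refine Nat.card_eq_one_iff_unique.mpr ⟨⟨fun a b => Subtype.ext ?_⟩, ⟨⟨1, orderOf_one⟩⟩⟩
  rw [orderOf_eq_one_iff.mp a.2, orderOf_eq_one_iff.mp b.2]

/-- The hypothesis on the value set in usable form. -/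
structure ValueSet (G : Type*) [Group G] (odd : ℕ) (ev : List ℕ) : Prop where
  mem : ∀ m, 0 < cn G m → cn G m = 1 ∨ cn G m = odd ∨ cn G m ∈ ev
  odd_attained : ∃ m, cn G m = odd
  attained : ∀ v ∈ ev, ∃ m, cn G m = v

/-- The numerical side conditions. -/
structure Numeric (odd : ℕ) (ev : List ℕ) : Prop where
  odd_ne : odd ≠ 1
  odd_odd : odd % 2 = 1
  even : ∀ v ∈ ev, v % 2 = 0 ∧ 0 < v ∧ v < 150

theorem even_cn {m : ℕ} (h : 2 < m) : cn G m % 2 = 0 := by
  have h1 : 2 ∣ m.totient := even_iff_two_dvd.mp (Nat.totient_even h)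
  exact Nat.mod_eq_zero_of_dvd (h1.trans (totient_dvd_cn m))

theorem cn_two {odd : ℕ} {ev : List ℕ} (hV : ValueSet G odd ev) (hN : Numeric odd ev) :
    cn G 2 = odd := by
  obtain ⟨m, hm⟩ := hV.odd_attained
  have := hN.odd_ne
  have := hN.odd_odd
  rcases Nat.lt_or_ge 2 m with h | h
  · have := even_cn (G := G) h
    omega
  · interval_cases m
    · exfalso
      have h0 : cn G 0 = 0 := by
        have : IsEmpty {g : G // orderOf g = 0} := ⟨fun g => (orderOf_pos g.1).ne' g.2⟩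
        exact Nat.card_of_isEmpty
      omega
    · exfalso
      have := cn_one (G := G)
      omega
    · exact hm

theorem cn_mem {odd : ℕ} {ev : List ℕ} (hV : ValueSet G odd ev) (hN : Numeric odd ev) {m : ℕ}
    (hm : 2 < m) (hpos : 0 < cn G m) : cn G m ∈ ev := by
  have := even_cn (G := G) hm
  have := hN.odd_odd
  rcases hV.mem m hpos with h | h | h
  · omega
  · omega
  · exact h

theorem attained_gt {odd : ℕ} {ev : List ℕ} (hV : ValueSet G odd ev) (hN : Numeric odd ev)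
    {v : ℕ} (hv : v ∈ ev) : ∃ m, 2 < m ∧ cn G m = v := by
  obtain ⟨m, hm⟩ := hV.attained v hv
  obtain ⟨h1, h2, -⟩ := hN.even v hv
  refine ⟨m, ?_, hm⟩
  by_contra h
  push Not at h
  interval_cases m
  · have : IsEmpty {g : G // orderOf g = 0} := ⟨fun g => (orderOf_pos g.1).ne' g.2⟩
    rw [cn, Nat.card_of_isEmpty] at hm
    omega
  · rw [cn_one] at hm
    omega
  · have := cn_two hV hN
    have := hN.odd_odd
    omega

/-- `Φ` of a divisor `2^a 3^b 5^c 7^d`. -/
def phiPow (p : ℕ) : ℕ → ℕ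
  | 0 => 1
  | a + 1 => p ^ a * (p - 1)

theorem totient_eq_phiPow {p : ℕ} (hp : p.Prime) : ∀ a, (p ^ a).totient = phiPow p a
  | 0 => by simp [phiPow]
  | a + 1 => Nat.totient_prime_pow_succ hp a

theorem totient_four (a b c d : ℕ) :
    (2 ^ a * (3 ^ b * (5 ^ c * 7 ^ d))).totient =
      phiPow 2 a * (phiPow 3 b * (phiPow 5 c * phiPow 7 d)) := by
  have h2 := totient_eq_phiPow Nat.prime_two a
  have h3 := totient_eq_phiPow Nat.prime_three b
  have h5 := totient_eq_phiPow (by norm_num : Nat.Prime 5) c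
  have h7 := totient_eq_phiPow (by norm_num : Nat.Prime 7) d
  have hc : ∀ {x y : ℕ} (i j : ℕ), Nat.Coprime x y → Nat.Coprime (x ^ i) (y ^ j) :=
    fun i j h => h.pow i j
  rw [Nat.totient_mul, Nat.totient_mul, Nat.totient_mul, h2, h3, h5, h7]
  · exact hc _ _ (by norm_num)
  · exact Nat.Coprime.mul_right (hc _ _ (by norm_num)) (hc _ _ (by norm_num))
  · exact Nat.Coprime.mul_right (hc _ _ (by norm_num))
      (Nat.Coprime.mul_right (hc _ _ (by norm_num)) (hc _ _ (by norm_num)))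

/-- Primes allowed by a value set. -/
def primeOK (ev : List ℕ) (p : ℕ) : Bool :=
  ev.any fun v => (v + 1) % p == 0 && v % (p - 1) == 0

/-- One case of the covering check. -/
def coverOne (ev : List ℕ) (cands : List (ℕ × List ℕ)) (a b c d v : ℕ) : Bool :=
  let m := 2 ^ a * (3 ^ b * (5 ^ c * 7 ^ d))
  !(Nat.blt 2 m && v % (phiPow 2 a * (phiPow 3 b * (phiPow 5 c * phiPow 7 d))) == 0 &&
      (b == 0 || primeOK ev 3) && (c == 0 || primeOK ev 5) && (d == 0 || primeOK ev 7)) ||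
    cands.any (fun x => x.1 == m && x.2.contains v)

/-- The certificates to be checked by computation for a given value set. -/
structure Certificate (ev : List ℕ) (cands : List (ℕ × List ℕ)) : Prop where
  primes : ∀ p < 151, p % 2 = 1 → primeOK ev p = true → p = 1 ∨ p = 3 ∨ p = 5 ∨ p = 7 ∨ ¬ p.Prime
  exps : ∀ a < 10, ∀ v ∈ ev, (v % phiPow 2 a = 0 → a ≤ 5) ∧ (v % phiPow 3 a = 0 → a ≤ 3) ∧
    (v % phiPow 5 a = 0 → a ≤ 2) ∧ (v % phiPow 7 a = 0 → a ≤ 1)
  cover : ∀ a < 6, ∀ b < 4, ∀ c < 3, ∀ d < 2, ∀ v ∈ ev, coverOne ev cands a b c d v = true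
  nodup : (cands.map Prod.fst).Nodup
  big : ∀ x ∈ cands, 2 < x.1

theorem prime_ok {odd : ℕ} {ev : List ℕ} (hV : ValueSet G odd ev) (hN : Numeric odd ev) {p : ℕ}
    (hp : p.Prime) (hp2 : p ≠ 2) (hd : p ∣ Nat.card G) : primeOK ev p = true ∧ p < 151 := by
  haveI : Fact p.Prime := ⟨hp⟩
  obtain ⟨g, hg⟩ := exists_prime_orderOf_dvd_card' (G := G) p hd
  have hpos : 0 < cn G p := cn_pos_iff.mpr ⟨g, hg⟩
  have hmem := cn_mem hV hN (lt_of_le_of_ne hp.two_le hp2.symm) hpos
  have h1 := totient_dvd_cn (G := G) p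
  rw [Nat.totient_prime hp] at h1
  have h2 := frob (G := G) hd
  rw [Nat.Prime.divisors hp, Finset.sum_pair hp.ne_one.symm, cn_one, add_comm] at h2
  obtain ⟨-, -, h150⟩ := hN.even _ hmem
  refine ⟨List.any_eq_true.mpr ⟨_, hmem, ?_⟩, ?_⟩
  · simp [Nat.mod_eq_zero_of_dvd h1, Nat.mod_eq_zero_of_dvd h2]
  · have := Nat.le_of_dvd (by omega) h2
    omega

theorem fits {odd : ℕ} {ev : List ℕ} {cands : List (ℕ × List ℕ)} (hV : ValueSet G odd ev)
    (hN : Numeric odd ev) (hcert : Certificate ev cands) : Fits G ev := by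
  refine ⟨fun v hv => attained_gt hV hN hv, fun p hp hd => ?_⟩
  by_cases hp2 : p = 2
  · exact Or.inl hp2
  obtain ⟨h1, h2⟩ := prime_ok hV hN hp hp2 hd
  rcases hcert.primes p h2 (hp.eq_two_or_odd.resolve_left hp2) h1 with h | h | h | h | h
  · exact absurd h hp.ne_one
  · exact Or.inr (Or.inl h)
  · exact Or.inr (Or.inr (Or.inl h))
  · exact Or.inr (Or.inr (Or.inr h))
  · exact absurd hp h

theorem mem_cands {odd : ℕ} {ev : List ℕ} {cands : List (ℕ × List ℕ)} (hV : ValueSet G odd ev)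
    (hN : Numeric odd ev) (hcert : Certificate ev cands) {m : ℕ} (hm : 2 < m)
    (hpos : 0 < cn G m) : ∃ x ∈ cands, x.1 = m ∧ cn G m ∈ x.2 := by
  have hfit := fits hV hN hcert
  have hcard : m ∣ Nat.card G := dvd_card_of_cn_pos hpos
  have hv := cn_mem hV hN hm hpos
  obtain ⟨-, hv0, hv150⟩ := hN.even _ hv
  have hphi : m.totient ∣ cn G m := totient_dvd_cn m
  have key : ∀ p k, p.Prime → p ^ k ∣ m → k < 10 ∧ cn G m % phiPow p k = 0 := by
    intro p k hp hpk
    have h1 : phiPow p k ∣ cn G m := by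
      rw [← totient_eq_phiPow hp k]
      exact (Nat.totient_dvd_of_dvd hpk).trans hphi
    refine ⟨?_, Nat.mod_eq_zero_of_dvd h1⟩
    rcases k with - | k
    · norm_num
    by_contra hk
    have h2 : 2 ^ 9 ≤ p ^ k * (p - 1) :=
      le_trans (le_trans (Nat.pow_le_pow_right (by norm_num) (by omega : 9 ≤ k))
        (Nat.pow_le_pow_left hp.two_le k)) (Nat.le_mul_of_pos_right _ (by have := hp.two_le; omega))
    have h3 : p ^ k * (p - 1) ≤ cn G m := Nat.le_of_dvd hv0 h1
    omega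
  have hL : m ∣ 2 ^ 5 * (3 ^ 3 * (5 ^ 2 * 7 ^ 1)) := by
    rw [Nat.dvd_iff_prime_pow_dvd_dvd]
    intro p k hp hpk
    rcases Nat.eq_zero_or_pos k with rfl | hk
    · simp
    obtain ⟨hk10, hmod⟩ := key p k hp hpk
    obtain ⟨e2, e3, e5, e7⟩ := hcert.exps k hk10 _ hv
    rcases hfit.primes p hp ((dvd_pow_self p hk.ne').trans (hpk.trans hcard)) with
      rfl | rfl | rfl | rfl
    · exact Dvd.dvd.mul_right (pow_dvd_pow 2 (e2 hmod)) _
    · exact Dvd.dvd.mul_left (Dvd.dvd.mul_right (pow_dvd_pow 3 (e3 hmod)) _) _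
    · exact Dvd.dvd.mul_left (Dvd.dvd.mul_left (Dvd.dvd.mul_right (pow_dvd_pow 5 (e5 hmod)) _) _) _
    · exact Dvd.dvd.mul_left (Dvd.dvd.mul_left (Dvd.dvd.mul_left (pow_dvd_pow 7 (e7 hmod)) _) _) _
  obtain ⟨x2, y1, hx2, hy1, rfl⟩ := Nat.dvd_mul.mp hL
  obtain ⟨x3, y2, hx3, hy2, rfl⟩ := Nat.dvd_mul.mp hy1
  obtain ⟨x5, x7, hx5, hx7, rfl⟩ := Nat.dvd_mul.mp hy2
  obtain ⟨a, ha, rfl⟩ := (Nat.dvd_prime_pow Nat.prime_two).mp hx2
  obtain ⟨b, hb, rfl⟩ := (Nat.dvd_prime_pow Nat.prime_three).mp hx3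
  obtain ⟨c, hc, rfl⟩ := (Nat.dvd_prime_pow (by norm_num : Nat.Prime 5)).mp hx5
  obtain ⟨d, hd, rfl⟩ := (Nat.dvd_prime_pow (by norm_num : Nat.Prime 7)).mp hx7
  have hok : ∀ p k, p.Prime → p ≠ 2 → p ^ k ∣ 2 ^ a * (3 ^ b * (5 ^ c * 7 ^ d)) →
      k = 0 ∨ primeOK ev p = true := fun p k hp h2 hpk => by
    rcases Nat.eq_zero_or_pos k with h | h
    · exact Or.inl h
    · exact Or.inr (prime_ok hV hN hp h2 (((dvd_pow_self p h.ne').trans hpk).trans hcard)).1
  have hcov := hcert.cover a (by omega) b (by omega) c (by omega) d (by omega) _ hv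
  have h3 := hok 3 b Nat.prime_three (by norm_num) (Dvd.dvd.mul_left (Dvd.intro _ rfl) _)
  have h5 := hok 5 c (by norm_num) (by norm_num)
    (Dvd.dvd.mul_left (Dvd.dvd.mul_left (Dvd.intro _ rfl) _) _)
  have h7 := hok 7 d (by norm_num) (by norm_num)
    (Dvd.dvd.mul_left (Dvd.dvd.mul_left (Dvd.intro_left _ rfl) _) _)
  have hmod := Nat.mod_eq_zero_of_dvd (totient_four a b c d ▸ hphi)
  simp only [coverOne, Bool.or_eq_true, Bool.not_eq_true', Bool.and_eq_false_iff,
    Bool.or_eq_false_iff, beq_eq_false_iff_ne] at hcov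
  have hblt : Nat.blt 2 (2 ^ a * (3 ^ b * (5 ^ c * 7 ^ d))) = true := Nat.blt_eq.mpr hm
  rcases hcov with hno | hyes
  · exfalso
    rcases hno with (((hno | hno) | hno) | hno) | hno
    · rw [hblt] at hno; exact Bool.noConfusion hno
    · exact hno hmod
    · rcases h3 with h | h
      · exact hno.1 h
      · exact Bool.noConfusion (h.symm.trans hno.2)
    · rcases h5 with h | h
      · exact hno.1 h
      · exact Bool.noConfusion (h.symm.trans hno.2)
    · rcases h7 with h | h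
      · exact hno.1 h
      · exact Bool.noConfusion (h.symm.trans hno.2)
  obtain ⟨x, hx, hx'⟩ := List.any_eq_true.mp hyes
  simp only [Bool.and_eq_true, beq_iff_eq, List.contains_eq_mem, decide_eq_true_eq] at hx'
  exact ⟨x, hx, hx'.1, hx'.2⟩

/-- The conclusion of the whole search. -/
theorem table {odd : ℕ} {ev : List ℕ} {cands : List (ℕ × List ℕ)} (hV : ValueSet G odd ev)
    (hN : Numeric odd ev) (hcert : Certificate ev cands) {N fuel : ℕ} {tgt : List (ℕ × ℕ)}
    (hs : search ev N tgt fuel cands [(2, odd), (1, 1)] = true) :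
    Nat.card G = N ∧ ∀ g : G, (orderOf g, cn G (orderOf g)) ∈ tgt := by
  have hodd : 0 < odd := by have := hN.odd_odd; omega
  have h := search_sound (G := G) (fun v hv => (hN.even v hv).2.1) (fits hV hN hcert) fuel cands
    [(2, odd), (1, 1)] hs ⟨by simp, by simp [cn_two hV hN, cn_one], by simp [hodd]⟩ hcert.nodup
    (fun x hx => by
      have := hcert.big x hx
      simp only [List.map_cons, List.map_nil, List.mem_cons, List.not_mem_nil, or_false]
      omega)
    (fun k hk => by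
      by_cases hk2 : 2 < k
      · obtain ⟨x, hx, hx1, -⟩ := mem_cands hV hN hcert hk2 hk
        exact Or.inr (List.mem_map.mpr ⟨x, hx, hx1⟩)
      · left
        obtain ⟨g, hg⟩ := cn_pos_iff.mp hk
        have := orderOf_pos g
        simp only [List.map_cons, List.map_nil, List.mem_cons, List.not_mem_nil, or_false]
        omega)
    (fun x hx hpos => by
      obtain ⟨y, hy, hy1, hy2⟩ := mem_cands hV hN hcert (hcert.big x hx) hpos
      have := List.inj_on_of_nodup_map hcert.nodup hy hx hy1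
      exact this ▸ hy2)
  exact ⟨h.1, fun g => h.2 _ (cn_pos_iff.mpr ⟨g, rfl⟩)⟩

end CfsgLib.SameOrder
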