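/-
Groups determined by their set of same-order-element counts: the computations for `A₄`, `A₅`, `A₆`.
-/
import Cfsg.Agent.Lib.SameOrder.Apply

set_option autoImplicit false

namespace CfsgLib.SameOrder

theorem cert_four : Certificate [8] candsFour :=
  ⟨by decide +kernel, by decide +kernel, by decide +kernel, by decide +kernel, by decide +kernel⟩

theorem cert_five : Certificate [20, 24] candsFive :=
  ⟨by decide +kernel, by decide +kernel, by decide +kernel, by decide +kernel, by decide +kernel⟩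

theorem cert_six : Certificate [80, 90, 144] candsSix :=
  ⟨by decide +kernel, by decide +kernel, by decide +kernel, by decide +kernel, by decide +kernel⟩

theorem search_four :
    search [8] 12 [(1, 1), (2, 3), (3, 8)] 70 candsFour [(2, 3), (1, 1)] = true := by
  decide +kernel

theorem search_five :
    search [20, 24] 60 [(1, 1), (2, 15), (3, 20), (5, 24)] 70 candsFive [(2, 15), (1, 1)] = true := by
  decide +kernel

theorem search_six :
    search [80, 90, 144] 360 [(1, 1), (2, 45), (3, 80), (4, 90), (5, 144)] 100 candsSix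
      [(2, 45), (1, 1)] = true := by
  decide +kernel

theorem cn_prime {A : Type*} [Group A] [Fintype A] [DecidableEq A] {p : ℕ} (hp : p.Prime) :
    cn A p = Fintype.card {g : A // g ^ p = 1 ∧ g ≠ 1} := by
  haveI : Fact p.Prime := ⟨hp⟩
  rw [cn, ← Nat.card_eq_fintype_card]
  exact Nat.card_congr (Equiv.subtypeEquivRight fun g => orderOf_eq_prime_iff)

theorem cn_four {A : Type*} [Group A] [Fintype A] [DecidableEq A] :
    cn A 4 = Fintype.card {g : A // g ^ 4 = 1 ∧ g ^ 2 ≠ 1} := by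
  rw [cn, ← Nat.card_eq_fintype_card]
  refine Nat.card_congr (Equiv.subtypeEquivRight fun g => ⟨fun h => ⟨?_, ?_⟩, fun h => ?_⟩)
  · rw [← h, pow_orderOf_eq_one]
  · intro h2
    have := orderOf_dvd_of_pow_eq_one h2
    rw [h] at this
    norm_num at this
  · haveI : Fact (Nat.Prime 2) := ⟨Nat.prime_two⟩
    exact orderOf_eq_prime_pow (p := 2) (n := 1) h.2 h.1

theorem cn_alt_four : cn (alternatingGroup (Fin 4)) 2 = 3 ∧ cn (alternatingGroup (Fin 4)) 3 = 8 := by
  rw [cn_prime Nat.prime_two, cn_prime Nat.prime_three]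
  constructor <;> decide +kernel

theorem cn_alt_five : cn (alternatingGroup (Fin 5)) 2 = 15 ∧ cn (alternatingGroup (Fin 5)) 3 = 20 ∧
    cn (alternatingGroup (Fin 5)) 5 = 24 := by
  rw [cn_prime Nat.prime_two, cn_prime Nat.prime_three, cn_prime (by norm_num : Nat.Prime 5)]
  refine ⟨?_, ?_, ?_⟩ <;> decide +kernel

theorem cn_alt_six : cn (alternatingGroup (Fin 6)) 2 = 45 ∧ cn (alternatingGroup (Fin 6)) 3 = 80 ∧
    cn (alternatingGroup (Fin 6)) 4 = 90 ∧ cn (alternatingGroup (Fin 6)) 5 = 144 := by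
  rw [cn_prime Nat.prime_two, cn_prime Nat.prime_three, cn_four,
    cn_prime (by norm_num : Nat.Prime 5)]
  refine ⟨?_, ?_, ?_, ?_⟩ <;> decide +kernel

theorem orders_alt_four (g : alternatingGroup (Fin 4)) :
    orderOf g = 1 ∨ orderOf g = 2 ∨ orderOf g = 3 := by
  have h : ∀ g : alternatingGroup (Fin 4), g ^ 2 = 1 ∨ g ^ 3 = 1 := by decide +kernel
  rcases h g with h | h
  · have := (Nat.dvd_prime Nat.prime_two).mp (orderOf_dvd_of_pow_eq_one h); omega
  · have := (Nat.dvd_prime Nat.prime_three).mp (orderOf_dvd_of_pow_eq_one h); omega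

theorem orders_alt_five (g : alternatingGroup (Fin 5)) :
    orderOf g = 1 ∨ orderOf g = 2 ∨ orderOf g = 3 ∨ orderOf g = 5 := by
  have h : ∀ g : alternatingGroup (Fin 5), g ^ 2 = 1 ∨ g ^ 3 = 1 ∨ g ^ 5 = 1 := by decide +kernel
  rcases h g with h | h | h
  · have := (Nat.dvd_prime Nat.prime_two).mp (orderOf_dvd_of_pow_eq_one h); omega
  · have := (Nat.dvd_prime Nat.prime_three).mp (orderOf_dvd_of_pow_eq_one h); omega
  · have := (Nat.dvd_prime (by norm_num : Nat.Prime 5)).mp (orderOf_dvd_of_pow_eq_one h); omega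

theorem orders_alt_six (g : alternatingGroup (Fin 6)) :
    orderOf g = 1 ∨ orderOf g = 2 ∨ orderOf g = 3 ∨ orderOf g = 4 ∨ orderOf g = 5 := by
  have h : ∀ g : alternatingGroup (Fin 6), g ^ 4 = 1 ∨ g ^ 3 = 1 ∨ g ^ 5 = 1 := by decide +kernel
  rcases h g with h | h | h
  · obtain ⟨k, hk, hk'⟩ := (Nat.dvd_prime_pow Nat.prime_two).mp
      (show orderOf g ∣ 2 ^ 2 from orderOf_dvd_of_pow_eq_one h)
    interval_cases k <;> omega
  · have := (Nat.dvd_prime Nat.prime_three).mp (orderOf_dvd_of_pow_eq_one h); omega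
  · have := (Nat.dvd_prime (by norm_num : Nat.Prime 5)).mp (orderOf_dvd_of_pow_eq_one h); omega

/-- The value set of the hypothesis, for a group whose orders are listed. -/
theorem valueSet_of {G A : Type*} [Group G] [Finite G] [Group A] [Finite A] {odd : ℕ} {ev : List ℕ}
    (h : ((fun m : ℕ => Nat.card {g : G // orderOf g = m}) '' Set.range (orderOf : G → ℕ)) =
      ((fun m : ℕ => Nat.card {g : A // orderOf g = m}) '' Set.range (orderOf : A → ℕ)))
    (hA1 : ∀ g : A, cn A (orderOf g) = 1 ∨ cn A (orderOf g) = odd ∨ cn A (orderOf g) ∈ ev)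
    (hA2 : ∀ v, v = odd ∨ v ∈ ev → ∃ m, cn A m = v ∧ 0 < v) : ValueSet G odd ev := by
  have hout : ∀ v, v = odd ∨ v ∈ ev → ∃ m, cn G m = v := by
    intro v hv
    obtain ⟨m, hm, hv0⟩ := hA2 v hv
    obtain ⟨g, hg⟩ := cn_pos_iff.mp (hm ▸ hv0 : 0 < cn A m)
    have hmem : v ∈ (fun m : ℕ => Nat.card {g : A // orderOf g = m}) '' Set.range (orderOf : A → ℕ) :=
      ⟨m, ⟨g, hg⟩, hm⟩
    rw [← h] at hmem
    obtain ⟨k, -, hk⟩ := hmem
    exact ⟨k, hk⟩
  refine ⟨fun m hm => ?_, hout odd (Or.inl rfl), fun v hv => hout v (Or.inr hv)⟩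
  obtain ⟨g, hg⟩ := cn_pos_iff.mp hm
  have hmem : cn G m ∈
      (fun m : ℕ => Nat.card {g : G // orderOf g = m}) '' Set.range (orderOf : G → ℕ) :=
    ⟨m, ⟨g, hg⟩, rfl⟩
  rw [h] at hmem
  obtain ⟨k, ⟨a, rfl⟩, hk⟩ := hmem
  rw [← hk]
  exact hA1 a

end CfsgLib.SameOrder
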