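/-
Groups determined by their set of same-order-element counts: simplicity from the table of orders.
-/
import Cfsg.Agent.Lib.SameOrder.Apply

set_option autoImplicit false

namespace CfsgLib.SameOrder

variable {G : Type*} [Group G] [Finite G]

/-- An element of order `5` permutes without fixed points a set avoiding its centraliser. -/
theorem five_dvd_card {x : G} (hx : orderOf x = 5) (P : G → Prop)
    (hP : ∀ g, P g → P (x * g * x⁻¹)) (hfix : ∀ g, P g → x * g ≠ g * x) :
    5 ∣ Nat.card {g : G // P g} := by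
  classical
  haveI : Fact (Nat.Prime 5) := ⟨by norm_num⟩
  let f : {g : G // P g} → {g : G // P g} := fun g => ⟨x * g.1 * x⁻¹, hP _ g.2⟩
  have hit : ∀ (k : ℕ) (g : {g : G // P g}), (f^[k] g).1 = x ^ k * g.1 * (x ^ k)⁻¹ := by
    intro k
    induction k with
    | zero => intro g; simp
    | succ k ih =>
      intro g
      rw [Function.iterate_succ_apply']
      show x * (f^[k] g).1 * x⁻¹ = _
      rw [ih, pow_succ']
      group
  have h5 : f^[5 ^ 1] = id := by
    funext g
    refine Subtype.ext ?_
    rw [hit, show x ^ 5 ^ 1 = 1 by rw [pow_one, ← hx, pow_orderOf_eq_one]]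
    simp
  have := Fintype.ofFinite {g : G // P g}
  have hmod := Equiv.Perm.card_fixedPoints_modEq (p := 5) (n := 1) (f := f) h5
  have hempty : IsEmpty (Function.fixedPoints f) := by
    refine ⟨fun g => hfix _ g.1.2 ?_⟩
    have e : x * g.1.1 * x⁻¹ = g.1.1 := congrArg Subtype.val g.2
    calc x * g.1.1 = x * g.1.1 * x⁻¹ * x := by group
      _ = g.1.1 * x := by rw [e]
  rw [Fintype.card_eq_zero (α := Function.fixedPoints f)] at hmod
  rw [Nat.card_eq_fintype_card]
  exact Nat.modEq_zero_iff_dvd.mp hmod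

theorem orderOf_not_five_mul (h : ∀ g : G, orderOf g = 1 ∨ orderOf g = 2 ∨ orderOf g = 3 ∨
    orderOf g = 4 ∨ orderOf g = 5) {x n : G} (hx : orderOf x = 5) (hn : n ≠ 1)
    (hn5 : orderOf n ≠ 5) : x * n ≠ n * x := by
  intro hc
  have hn1 : orderOf n ≠ 1 := fun e => hn (orderOf_eq_one_iff.mp e)
  have hco : (orderOf x).Coprime (orderOf n) := by
    rw [hx]
    rcases h n with h | h | h | h | h
    · exact absurd h hn1
    all_goals first | exact absurd h hn5 | (rw [h]; norm_num)
  have := Commute.orderOf_mul_eq_mul_orderOf_of_coprime hc hco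
  rw [hx] at this
  have := orderOf_pos n
  rcases h (x * n) with h | h | h | h | h <;> omega

/-- A normal subgroup of index prime to `p` contains all elements of order `p`. -/
theorem mem_of_index {N : Subgroup G} [N.Normal] {p : ℕ} (hp : p.Prime) (hi : ¬ p ∣ N.index)
    {g : G} (hg : orderOf g = p) : g ∈ N := by
  have h1 : orderOf (QuotientGroup.mk' N g) ∣ p := hg ▸ orderOf_map_dvd _ g
  have h2 : orderOf (QuotientGroup.mk' N g) ∣ N.index := by
    rw [Subgroup.index]
    exact orderOf_dvd_natCard _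
  rcases (Nat.dvd_prime hp).mp h1 with h | h
  · rw [orderOf_eq_one_iff] at h
    exact (QuotientGroup.eq_one_iff g).mp h
  · exact absurd (h ▸ h2) hi

/-- Distinguished subsets of a finite group with different orders, plus the identity. -/
theorem add_le_card {N : Subgroup G} {p q : ℕ} (hpq : p ≠ q) (hp : p ≠ 1) (hq : q ≠ 1) :
    Nat.card {g : G // g ∈ N ∧ orderOf g = p} + Nat.card {g : G // g ∈ N ∧ orderOf g = q} + 1 ≤
      Nat.card N := by
  have hle : Nat.card ({g : G // g ∈ N ∧ orderOf g = p} ⊕ {g : G // g ∈ N ∧ orderOf g = q} ⊕ Unit) ≤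
      Nat.card N := by
    refine Nat.card_le_card_of_injective
      (Sum.elim (fun g => ⟨g.1, g.2.1⟩) (Sum.elim (fun g => ⟨g.1, g.2.1⟩) fun _ => 1))
      (fun a b h => ?_)
    have ho : orderOf ((Sum.elim (fun g => (⟨g.1, g.2.1⟩ : N))
        (Sum.elim (fun g => ⟨g.1, g.2.1⟩) fun _ => 1) a : N) : G) = orderOf ((Sum.elim
        (fun g => (⟨g.1, g.2.1⟩ : N)) (Sum.elim (fun g => ⟨g.1, g.2.1⟩) fun _ => 1) b : N) : G) :=
      congrArg (fun n : N => orderOf (n : G)) h
    have hv := congrArg (fun n : N => (n : G)) h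
    rcases a with a | a | a <;> rcases b with b | b | b <;>
      simp only [Sum.elim_inl, Sum.elim_inr, Subgroup.coe_one, orderOf_one] at ho hv
    all_goals first
      | exact congrArg Sum.inl (Subtype.ext hv)
      | exact congrArg (Sum.inr ∘ Sum.inl) (Subtype.ext hv)
      | rfl
      | (exfalso; first
          | (have := a.2.2; have := b.2.2; omega)
          | (have := a.2.2; omega)
          | (have := b.2.2; omega))
  rw [Nat.card_sum, Nat.card_sum, Nat.card_unique (α := Unit)] at hle
  omega

theorem cn_eq_of_index {N : Subgroup G} [N.Normal] {p : ℕ} (hp : p.Prime) (hi : ¬ p ∣ N.index) :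
    Nat.card {g : G // g ∈ N ∧ orderOf g = p} = cn G p :=
  Nat.card_congr (Equiv.subtypeEquivRight fun _ =>
    ⟨fun h => h.2, fun h => ⟨mem_of_index hp hi h, h⟩⟩)

theorem pos_of_dvd {N : Subgroup G} {p : ℕ} (hp : p.Prime) (hd : p ∣ Nat.card N) :
    0 < Nat.card {g : G // g ∈ N ∧ orderOf g = p} := by
  haveI : Fact p.Prime := ⟨hp⟩
  obtain ⟨⟨a, haN⟩, ha⟩ := exists_prime_orderOf_dvd_card' (G := N) p hd
  rw [Subgroup.orderOf_mk] at ha
  exact Nat.card_pos_iff.mpr ⟨⟨⟨a, haN, ha⟩⟩, inferInstance⟩

theorem isSimple_aux (hN : Nat.card G = 60 ∨ Nat.card G = 360)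
    (hord : ∀ g : G, orderOf g = 1 ∨ orderOf g = 2 ∨ orderOf g = 3 ∨ orderOf g = 4 ∨ orderOf g = 5)
    (h3 : Nat.card G = 60 → cn G 3 = 20) (h5 : Nat.card G = 60 → cn G 5 = 24)
    (h3' : Nat.card G = 360 → cn G 3 = 80) (h5' : Nat.card G = 360 → cn G 5 = 144) :
    IsSimpleGroup G := by
  haveI : Fact (Nat.Prime 5) := ⟨by norm_num⟩
  have hp5 : Nat.Prime 5 := by norm_num
  obtain ⟨x, hx⟩ := exists_prime_orderOf_dvd_card' (G := G) 5
    (by rcases hN with h | h <;> rw [h] <;> norm_num)
  haveI : Nontrivial G := Finite.one_lt_card_iff_nontrivial.mp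
    (by rcases hN with h | h <;> omega)
  refine ⟨fun N hNn => ?_⟩
  by_contra hne
  push Not at hne
  obtain ⟨hbot, htop⟩ := hne
  have hmul := N.card_mul_index
  have hi0 : 0 < N.index := Nat.pos_of_ne_zero N.index_ne_zero_of_finite
  have h2i : 2 ≤ N.index := by
    have h1 : N.index ≠ 1 := fun h => htop (Subgroup.index_eq_one.mp h)
    omega
  have hN1 : 1 < Nat.card N := Subgroup.one_lt_card_iff_ne_bot _ |>.mpr hbot
  by_cases hi5 : 5 ∣ N.index
  · -- the element of order five acts without fixed points on `N`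
    have h5N : ¬ 5 ∣ Nat.card N := by
      intro h
      have := Nat.mul_dvd_mul h hi5
      rw [hmul] at this
      rcases hN with e | e <;> rw [e] at this <;> norm_num at this
    have hno : ∀ n ∈ N, orderOf n ≠ 5 := fun n hn h => h5N (by
      rw [← h]
      exact Subgroup.orderOf_dvd_natCard N hn)
    by_cases hi3 : 3 ∣ N.index
    · -- then `|N| ∈ {2, 4, 6, 8, 12, 24}`
      have hd : Nat.card N * 15 ∣ Nat.card G :=
        hmul ▸ Nat.mul_dvd_mul_left _ (Nat.Coprime.mul_dvd_of_dvd_of_dvd (by norm_num) hi3 hi5)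
      have hle : Nat.card N * 15 ≤ 360 := by
        have := Nat.le_of_dvd Nat.card_pos hd
        omega
      have hA := five_dvd_card hx (fun g => g ∈ N ∧ g ≠ 1)
        (fun g hg => ⟨hNn.conj_mem g hg.1 x, fun h => hg.2 (by
          calc g = x⁻¹ * (x * g * x⁻¹) * x := by group
            _ = 1 := by rw [h]; group)⟩)
        (fun g hg => orderOf_not_five_mul hord hx hg.2 (hno g hg.1))
      have hcard : Nat.card {g : G // g ∈ N ∧ g ≠ 1} = Nat.card N - 1 := by
        classical
        have := Fintype.ofFinite N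
        rw [Nat.card_congr (β := {n : N // n ≠ 1})
          ⟨fun g => ⟨⟨g.1, g.2.1⟩, fun h => g.2.2 (congrArg Subtype.val h)⟩,
            fun n => ⟨n.1.1, n.1.2, fun h => n.2 (Subtype.ext h)⟩, fun g => rfl, fun n => rfl⟩,
          Nat.card_eq_fintype_card, Fintype.card_subtype_compl, Fintype.card_subtype_eq,
          Nat.card_eq_fintype_card]
      rw [hcard] at hA
      have h6 : Nat.card N = 6 := by
        have hle' : Nat.card N ≤ 24 := by omega
        rcases hN with e | e <;> rw [e] at hd <;>
          (interval_cases hc : Nat.card N <;> omega)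
      have hpos3 := pos_of_dvd (N := N) Nat.prime_three (by rw [h6]; norm_num)
      have hpos2 := pos_of_dvd (N := N) Nat.prime_two (by rw [h6]; norm_num)
      have hB := five_dvd_card hx (fun g => g ∈ N ∧ orderOf g = 3)
        (fun g hg => ⟨hNn.conj_mem g hg.1 x, by
          rw [← MulAut.conj_apply]; exact (MulEquiv.orderOf_eq _ g).trans hg.2⟩)
        (fun g hg => orderOf_not_five_mul hord hx (fun h => by simp [h] at hg) (by omega))
      have hsum := add_le_card (N := N) (p := 3) (q := 2) (by norm_num) (by norm_num) (by norm_num)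
      have := Nat.le_of_dvd hpos3 hB
      omega
    · have hsum := add_le_card (N := N) (p := 3) (q := 2) (by norm_num) (by norm_num) (by norm_num)
      rw [cn_eq_of_index Nat.prime_three hi3] at hsum
      have hle : Nat.card N * 5 ≤ Nat.card G :=
        hmul ▸ Nat.mul_le_mul_left _ (Nat.le_of_dvd hi0 hi5)
      rcases hN with e | e
      · rw [h3 e] at hsum; omega
      · rw [h3' e] at hsum; omega
  · have hsum := add_le_card (N := N) (p := 3) (q := 5) (by norm_num) (by norm_num) (by norm_num)
    rw [cn_eq_of_index hp5 hi5] at hsum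
    have hle2 : Nat.card N * 2 ≤ Nat.card G := hmul ▸ Nat.mul_le_mul_left _ h2i
    by_cases hi3 : 3 ∣ N.index
    · have : Nat.card N * 3 ≤ Nat.card G :=
        hmul ▸ Nat.mul_le_mul_left _ (Nat.le_of_dvd hi0 hi3)
      rcases hN with e | e
      · rw [h5 e] at hsum; omega
      · rw [h5' e] at hsum; omega
    · rw [cn_eq_of_index Nat.prime_three hi3] at hsum
      rcases hN with e | e
      · rw [h3 e, h5 e] at hsum; omega
      · rw [h3' e, h5' e] at hsum; omega

end CfsgLib.SameOrder
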